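import Cfsg.Prelude.Def_LocalEven

/-!
# Simple groups without a section `Sym(3)`: the statement

Owner: helper21.
-/

set_option autoImplicit false

namespace Cfsg.Agent.Lib.SThreeFree21

universe u

/-- A finite non-abelian simple group which does not involve `Sym(3)` is a Suzuki group or some
`PSL₂(3 ^ (2 n + 1))`. -/
def SThreeFreeSimple : Prop :=
  ∀ (G : Type u) [Group G] [Finite G], IsSimpleGroup G → (∃ a b : G, a * b ≠ b * a) →
    ¬ Cfsg.Involves (Equiv.Perm (Fin 3)) G → Cfsg.IsSuzukiOrPSL2OddPowerThree G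

end Cfsg.Agent.Lib.SThreeFree21
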