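import Cfsg.Agent.Lib.SThreeFree21.Row2757
import Cfsg.Agent.Lib.BenderSuzuki.Wrappers.Cases
import Cfsg.Agent.Lib.CITSuzuki.Lists
import Cfsg.Agent.Lib.SmallGroups.ProjLine

/-!
# S4031: simple groups in which no element of order a power of 3 is moved in its own cyclic group

Owner: helper21.
-/

set_option autoImplicit false

namespace Cfsg.Agent.Lib.SThreeFree21

universe u

/-- S4031, given the simple groups without a section `Sym(3)`. -/
theorem row4031 (hK : SThreeFreeSimple.{u}) {G : Type u} [Group G] [Finite G] [IsSimpleGroup G]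
    (hna : ¬ IsMulCommutative G)
    (hirr : ∀ x : G, (∀ r : ℕ, r.Prime → r ∣ orderOf x → r = 3) →
      Subgroup.normalizer ((Subgroup.zpowers x : Subgroup G) : Set G) ≤ Subgroup.centralizer {x}) :
    (∃ f : ℕ, 1 ≤ f ∧ Nonempty (G ≃* Matrix.ProjectiveSpecialLinearGroup (Fin 2)
      (GaloisField 3 (2 * f + 1)))) ∨ Cfsg.IsSuzuki G := by
  have hnc : ∃ a b : G, a * b ≠ b * a := by
    by_contra hcom
    push Not at hcom
    exact hna (IsMulCommutative.of_comm hcom)
  haveI : Fact (Nat.Prime 3) := ⟨Nat.prime_three⟩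
  obtain ⟨T⟩ : Nonempty (Sylow 3 G) := inferInstance
  have h3 : ¬ Cfsg.Involves (Equiv.Perm (Fin 3)) G := by
    refine not_involves_three T fun x hx hx1 g _ hg => ?_
    obtain ⟨k, hk⟩ := IsPGroup.iff_orderOf.1 T.2 ⟨x, hx⟩
    rw [Subgroup.orderOf_mk] at hk
    have hord : ∀ r : ℕ, r.Prime → r ∣ orderOf x → r = 3 := fun r hr hd =>
      (Nat.prime_dvd_prime_iff_eq hr Nat.prime_three).1 (hr.dvd_of_dvd_pow (hk ▸ hd))
    have hgN : g ∈ Subgroup.normalizer ((Subgroup.zpowers x : Subgroup G) : Set G) := by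
      refine Subgroup.mem_normalizer_iff.2 fun z => ?_
      have key : ∀ i : ℤ, g * x ^ i * g⁻¹ = x ^ (-i) := fun i => by
        rw [← conj_zpow, hg, inv_zpow, zpow_neg]
      constructor
      · rintro ⟨i, rfl⟩
        exact ⟨-i, (key i).symm⟩
      · rintro ⟨i, hi : x ^ i = g * z * g⁻¹⟩
        refine ⟨-i, ?_⟩
        have := key (-i)
        rw [neg_neg, hi] at this
        exact mul_left_cancel (mul_right_cancel this)
    have hc := (Subgroup.mem_centralizer_singleton_iff.1 (hirr x hord hgN))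
    have h2 : x * x = 1 := by
      rw [hc, mul_inv_cancel_right] at hg
      exact mul_eq_one_iff_eq_inv.2 hg
    have hd2 : orderOf x ∣ 2 := orderOf_dvd_of_pow_eq_one (by rw [pow_two, h2])
    rcases (Nat.dvd_prime Nat.prime_two).1 hd2 with h | h
    · exact hx1 (orderOf_eq_one_iff.1 h)
    · exact absurd (hord 2 Nat.prime_two (by rw [h])) (by decide)
  rcases hK G inferInstance hnc h3 with h | ⟨F, _, _, n, hn, ⟨e⟩⟩
  · exact Or.inr (BenderSuzuki.Wrappers.isSuzuki_of_iso h)
  · refine Or.inl ⟨n, ?_, ?_⟩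
    · have h4 := CITSuzuki.Lists.five_le_of_simple hnc e
      by_contra h0
      obtain rfl : n = 0 := by omega
      norm_num at hn
      omega
    · have hGF : Nat.card (GaloisField 3 (2 * n + 1)) = 3 ^ (2 * n + 1) :=
        GaloisField.card 3 _ (by omega)
      haveI : Fintype (GaloisField 3 (2 * n + 1)) := Fintype.ofFinite _
      rw [Nat.card_eq_fintype_card] at hGF
      obtain ⟨e'⟩ := SmallGroups.ProjLine.psl_congr_card (F := F)
        (F' := GaloisField 3 (2 * n + 1)) (hn.trans hGF.symm)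
      exact ⟨e.trans e'⟩

end Cfsg.Agent.Lib.SThreeFree21
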