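import Cfsg.Agent.Lib.SThreeFree21.Statement
import Cfsg.Agent.Lib.GlaubermanGlobal.Main
import Cfsg.Agent.Lib.LAEven54.Inverted
import Cfsg.Agent.Lib.Transfer.InvolvesS4
import Cfsg.Prelude.Def_Local
import Cfsg.Prelude.Def_LocalEven

/-!
# S2757: no inversion in `N(Z(J(T)))` of a Sylow 3-subgroup (Glauberman)

If some element of `3`-power order of `G` is inverted, then so is one in `N(Z(J(T)))` for a Sylow
`3`-subgroup `T`.  So the hypothesis of S2757 says that `Sym(3)` is not involved.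

Owner: helper21.
-/

set_option autoImplicit false

namespace Cfsg.Agent.Lib.SThreeFree21

open Cfsg Cfsg.Agent.Lib Cfsg.Agent.Lib.GlaubermanGlobal Cfsg.Agent.Lib.ConjFunctor.Reach

universe u

/-- An inverted element in a Sylow `3`-subgroup gives an inversion in `N(Z(J(T)))`. -/
theorem exists_inverted_center {G : Type u} [Group G] [Finite G] (T : Sylow 3 G) {y g : G}
    (hy : y ∈ (T : Subgroup G)) (hy1 : y ≠ 1) (hg : g * y * g⁻¹ = y⁻¹) :
    ∃ x ∈ (T : Subgroup G), x ≠ 1 ∧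
      ∃ n ∈ Subgroup.normalizer (Cfsg.centerThompsonAOf (T : Subgroup G) : Set G),
        n * x * n⁻¹ = x⁻¹ := by
  by_cases hr : Real (Subgroup.normalizer (Cfsg.centerThompsonAOf (T : Subgroup G) : Set G)) {y} g
  · obtain ⟨n, hn, e⟩ := hr
    exact ⟨y, hy, hy1, n, hn, (e y rfl).trans hg⟩
  · obtain ⟨⟨x, hxE, hx1, hxp, hall⟩, -⟩ := hasEigen_of_bad (by decide : (3 : ℕ) ≠ 2) T ⟨{y}, g,
      Set.singleton_subset_iff.2 hy, Subgroup.mem_top _, by
        rintro _ ⟨a, ha, rfl⟩
        rw [Set.mem_singleton_iff] at ha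
        subst ha
        show g * a * g⁻¹ ∈ _
        rw [hg]
        exact inv_mem hy, hr⟩
    obtain ⟨n, hn, e⟩ := hall (-1)
    refine ⟨x, ZJ.centerThompsonAOf_le _ hxE, hx1, n, hn, e.trans ?_⟩
    rw [show ((-1 : (ZMod 3)ˣ) : ZMod 3).val = 2 from by decide, eq_inv_iff_mul_eq_one, ← pow_succ]
    exact hxp

/-- The hypothesis of S2757 excludes sections `Sym(3)`. -/
theorem not_involves_three {G : Type u} [Group G] [Finite G] (T : Sylow 3 G)
    (h : ∀ x ∈ (T : Subgroup G), x ≠ 1 →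
      ∀ g ∈ Subgroup.normalizer (Cfsg.centerThompsonAOf (T : Subgroup G) : Set G),
        g * x * g⁻¹ ≠ x⁻¹) :
    ¬ Cfsg.Involves (Equiv.Perm (Fin 3)) G := by
  intro hi
  obtain ⟨K, φ, hφ⟩ := Transfer.InvolvesS4.exists_hom_of_involves hi
  let c : Equiv.Perm (Fin 3) := finRotate 3
  let τ : Equiv.Perm (Fin 3) := Equiv.swap 0 1
  have hc : orderOf c = 3 := orderOf_eq_prime (by decide) (by decide)
  haveI : (Subgroup.zpowers c).Normal := Subgroup.normal_of_index_eq_two (by
    have h := (Subgroup.zpowers c).index_mul_card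
    rw [Nat.card_zpowers, hc, Nat.card_perm, Nat.card_eq_fintype_card, Fintype.card_fin] at h
    simp only [Nat.factorial] at h
    omega)
  obtain ⟨x, P, hx, hP, hxN, hxC⟩ := LAEven54.Inverted.exists_normalizing_of_section
    (p := 3) (by decide) K φ hφ (M := Subgroup.zpowers c) (a := τ)
    (IsPGroup.of_card (n := 1) (by rw [Nat.card_zpowers, hc, pow_one])) (by decide) (by
      intro hh
      exact absurd ((Subgroup.mem_centralizer_iff.1 hh) c (Subgroup.mem_zpowers c)) (by decide))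
  obtain ⟨x', y, -, hy, -, hy1, hinv⟩ :=
    LAEven54.Inverted.exists_inverted_of_normalizer hx hP hxN hxC
  obtain ⟨T₀, hT₀⟩ := hP.exists_le_sylow
  obtain ⟨g₀, hg₀⟩ := MulAction.exists_smul_eq G T₀ T
  have hyT : g₀ * y * g₀⁻¹ ∈ (T : Subgroup G) := by
    rw [← hg₀]
    exact Subgroup.mem_pointwise_smul_iff_inv_smul_mem.2 (by simpa [mul_assoc] using hT₀ hy)
  obtain ⟨z, hz, hz1, n, hn, e⟩ := exists_inverted_center T (g := g₀ * x' * g₀⁻¹) hyT
    (fun e => hy1 (by simpa using e))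
    (by
      rw [show g₀ * x' * g₀⁻¹ * (g₀ * y * g₀⁻¹) * (g₀ * x' * g₀⁻¹)⁻¹
          = g₀ * (x' * y * x'⁻¹) * g₀⁻¹ from by group, hinv]
      group)
  exact h z hz hz1 n hn e

/-- S2757, given the simple groups without a section `Sym(3)`. -/
theorem row2757 (hK : SThreeFreeSimple.{u}) {G : Type u} [Group G] [Finite G] (T : Sylow 3 G)
    (h : ∀ x ∈ (T : Subgroup G), x ≠ 1 →
      ∀ g ∈ Subgroup.normalizer (Cfsg.centerThompsonAOf (T : Subgroup G) : Set G),
        g * x * g⁻¹ ≠ x⁻¹) :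
    ¬ Cfsg.Involves (Equiv.Perm (Fin 3)) G ∧
      Cfsg.IsCompositionKGroupWith Cfsg.IsSuzukiOrPSL2OddPowerThree G := by
  have h3 := not_involves_three T h
  refine ⟨h3, fun H _ N _ hs hna => hK (H ⧸ N) hs ?_ fun hi =>
    h3 (Transfer.InvolvesS4.involves_of_injective H.subtype H.subtype_injective
      (Transfer.InvolvesS4.involves_of_surjective (QuotientGroup.mk' N)
        (QuotientGroup.mk'_surjective N) hi))⟩
  by_contra hcom
  push Not at hcom
  exact hna (IsMulCommutative.of_comm hcom)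

end Cfsg.Agent.Lib.SThreeFree21
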